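import Cfsg.Agent.H49.TF.Cop
import Cfsg.Agent.H49.Four.NineSix

/-!
# `Fi24'`: elements of order 3 of class `X 1` and `2^11 : M24` (helper49, for S2491 and S2492)

* `into_one` : for `s` in the class of `X 1` and a 2-element `t` commuting with `s`, `s t` is conjugate into `2^11 : M24`.
-/

set_option autoImplicit false
set_option maxRecDepth 100000

namespace Cfsg.Agent.H49.TF

open Cfsg Subgroup Cfsg.Agent.H827.Coco
open Cfsg.Agent.H827.CocoD (d e word_mem rho_of_chkPt conj_d word_reverse)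
open Cfsg.Agent.Schreier.FiBasic (lab)
open Cfsg.Agent.SporadicA.GolayBase (pt idx pt_idx idx_pt idx_lt)
open Cfsg.Agent.SporadicA.GolayPerm (papp pcomp)
open Cfsg.Agent.SporadicStructure.M24El
open Cfsg.Agent.Lib.PermNet Cfsg.Agent.Lib.PermNetPt Cfsg.Agent.Fischer.Fi24RepDef Cfsg.Agent.Fischer.Fi24Rep
open Cfsg.Agent.Fischer.Fi24Spider (word_append word_cons word_nil)
open Cfsg.Agent.R08.FiTwentyFour (L finite_Fi24 mem_commutator_iff)
open Cfsg.Agent.R08.TetBasic (pair_unique)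
open Cfsg.Spor (Fi24)
open Cfsg.Spor.Fi24 (Gen)

/-! ### Fixed elements from fixed pairs -/

/-- the product of two points as an element of `N` -/
noncomputable def ee (p q : GolayPt) : NN := ⟨e p * e q, le_normalizer (e_mem p q)⟩

theorem ind_ee (p q : GolayPt) : ind (ee p q) = 1 := (ind_ker _).2 (e_mem p q)

theorem ee_coe (p q : GolayPt) : (((ee p q : NN) : Spor.Fi24') : Fi24) = d p * d q := coe_two p q

theorem ee_mem {s : NN} {p q : GolayPt} (hp : ((ind s : M24) : Equiv.Perm GolayPt) p = p)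
    (hq : ((ind s : M24) : Equiv.Perm GolayPt) q = q) : ee p q ∈ ind.ker ⊓ centralizer ({s} : Set NN) := by
  refine ⟨MonoidHom.mem_ker.2 (ind_ee p q), mem_centralizer_singleton_iff.2 ?_⟩
  have h1 := ind_spec s p
  have h2 := ind_spec s q
  rw [hp] at h1
  rw [hq] at h2
  apply Subtype.ext
  apply Subtype.ext
  show (((ee p q : NN) : Spor.Fi24') : Fi24) * ((s : Spor.Fi24') : Fi24) =
    ((s : Spor.Fi24') : Fi24) * (((ee p q : NN) : Spor.Fi24') : Fi24)
  rw [ee_coe]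
  have h3 : ((s : Spor.Fi24') : Fi24) * (d p * d q) * ((s : Spor.Fi24') : Fi24)⁻¹ = d p * d q := by
    calc ((s : Spor.Fi24') : Fi24) * (d p * d q) * ((s : Spor.Fi24') : Fi24)⁻¹ =
        (((s : Spor.Fi24') : Fi24) * d p * ((s : Spor.Fi24') : Fi24)⁻¹) *
          (((s : Spor.Fi24') : Fi24) * d q * ((s : Spor.Fi24') : Fi24)⁻¹) := by group
      _ = d p * d q := by rw [h1, h2]
  exact (mul_inv_eq_iff_eq_mul.1 h3).symm

theorem ee_inj {p q r s : GolayPt} (h : ee p q = ee r s) : (p = r ∧ q = s) ∨ (p = s ∧ q = r) ∨ (p = q ∧ r = s) := by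
  have h1 : d p * d q = d r * d s := by
    rw [← ee_coe, ← ee_coe, h]
  by_cases hpq : p = q
  · right; right
    refine ⟨hpq, ?_⟩
    rw [hpq, Cfsg.Agent.H827.CocoD.d_sq] at h1
    have h2 : d r = d s := by
      calc d r = d r * (d s * d s) := by rw [Cfsg.Agent.H827.CocoD.d_sq, mul_one]
        _ = (d r * d s) * d s := by group
        _ = d s := by rw [← h1, one_mul]
    exact Cfsg.Agent.H827.CocoD.d_inj h2
  · rcases pair_unique Cfsg.Agent.R08.TetFi24A.tr (d_mem_L p) (d_mem_L q) (d_mem_L r) (d_mem_L s) (d_comm p q)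
      (d_ne hpq) (d_comm r s) h1 with ⟨h2, h3⟩ | ⟨h2, h3⟩
    · exact Or.inl ⟨(Cfsg.Agent.H827.CocoD.d_inj h2).symm, (Cfsg.Agent.H827.CocoD.d_inj h3).symm⟩
    · right; left
      exact ⟨(Cfsg.Agent.H827.CocoD.d_inj h3).symm, (Cfsg.Agent.H827.CocoD.d_inj h2).symm⟩

theorem le_card_fix {s : NN} {n : ℕ} (P Q : Fin n → GolayPt)
    (hP : ∀ i, ((ind s : M24) : Equiv.Perm GolayPt) (P i) = P i)
    (hQ : ∀ i, ((ind s : M24) : Equiv.Perm GolayPt) (Q i) = Q i)
    (h : ∀ i j, (P i = P j ∧ Q i = Q j) ∨ (P i = Q j ∧ Q i = P j) ∨ (P i = Q i ∧ P j = Q j) → i = j) :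
    n ≤ Nat.card (ind.ker ⊓ centralizer ({s} : Set NN) : Subgroup NN) := by
  have h1 := Nat.card_le_card_of_injective
    (fun i : Fin n => (⟨ee (P i) (Q i), ee_mem (hP i) (hQ i)⟩ : (ind.ker ⊓ centralizer ({s} : Set NN) : Subgroup NN)))
    (fun i j hij => h i j (ee_inj (congrArg Subtype.val hij)))
  rwa [Nat.card_fin] at h1

/-! ### Elements of `M24` -/

/-- a dihedral group of order 8 commuting with `m` -/
def chkM (m a b : ℕ) : Bool :=
  ok m && ok a && ok b && Nat.beq (pcomp a m) (pcomp m a) && Nat.beq (pcomp b m) (pcomp m b) &&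
    Nat.beq (pcomp (pcomp a a) (pcomp a a)) idP && Nat.beq (pcomp b b) idP &&
    Nat.beq (pcomp (pcomp (pcomp b a) b) a) idP

theorem eight_M24 {m a b : ℕ} (h : chkM m a b = true) (h2 : ∃ i < 24, papp (pcomp a a) i ≠ i) :
    2 ^ 3 ∣ Nat.card (centralizer ({el m} : Set M24)) := by
  unfold chkM at h
  simp only [Bool.and_eq_true] at h
  obtain ⟨⟨⟨⟨⟨⟨⟨hm, ha⟩, hb⟩, h3⟩, h4⟩, h5⟩, h6⟩, h7⟩ := h
  have e3 := congrArg el (Nat.eq_of_beq_eq_true h3)
  have e4 := congrArg el (Nat.eq_of_beq_eq_true h4)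
  have e5 := congrArg el (Nat.eq_of_beq_eq_true h5)
  have e6 := congrArg el (Nat.eq_of_beq_eq_true h6)
  have e7 := congrArg el (Nat.eq_of_beq_eq_true h7)
  rw [el_pcomp ha hm, el_pcomp hm ha] at e3
  rw [el_pcomp hb hm, el_pcomp hm hb] at e4
  rw [el_pcomp (ok_pcomp ha ha) (ok_pcomp ha ha), el_pcomp ha ha, el_idP] at e5
  rw [el_pcomp hb hb, el_idP] at e6
  rw [el_pcomp (ok_pcomp (ok_pcomp hb ha) hb) ha, el_pcomp (ok_pcomp hb ha) hb, el_pcomp hb ha, el_idP] at e7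
  have hne := Cfsg.Agent.H854.Ore.el_ne (ok_pcomp ha ha) h2
  rw [el_pcomp ha ha] at hne
  refine eight_dvd (a := el a) (b := el b) (mem_centralizer_singleton_iff.2 e3) (mem_centralizer_singleton_iff.2 e4)
    ?_ ?_ ?_ ?_
  · rw [← e5]; simp only [pow_succ, pow_zero, one_mul]; group
  · rw [pow_two]; exact hne
  · rw [pow_two]; exact e6
  · exact mul_eq_one_iff_eq_inv.1 e7

/-- an element of `N` from a word and a packed permutation -/
theorem word_NN {u : List Gen} (hu : u.length % 2 = 0) {m : ℕ} (hm : ok m = true)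
    (h : ∀ i < 24, chkPt (nw u false) (lab (pt i)) (lab (pt (papp m i))) = true) :
    ∃ s : NN, ((s : Spor.Fi24') : Fi24) = word u ∧ ind s = el m := by
  have h1 : ∀ p : GolayPt, word u * d p * (word u)⁻¹ = d ((el m : Equiv.Perm GolayPt) p) := by
    intro p
    apply conj_d
    have h2 := rho_of_chkPt (h (idx p) (idx_lt p))
    rw [pt_idx] at h2
    rw [h2]
    congr 1
    exact (el_smul_pt hm p).symm
  refine ⟨⟨⟨word u, word_mem hu⟩, mem_normalizer_of (m := (el m : Equiv.Perm GolayPt)) h1⟩, rfl, ?_⟩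
  exact Subtype.ext (ind_eq h1)

/-! ### The class of `X 1` -/

/-- the conjugating word -/
def h1w : List Gen := [.a, .k, .b]

/-- the word of the element -/
def s1w : List Gen := h1w.reverse ++ ([.l, .k, .b, .c] ++ h1w)

/-- its permutation of the 24 points, of type `1^6 3^6` -/
def m1 : ℕ := 29068943023772579943606909554232033

/-- a dihedral group commuting with it -/
def a1 : ℕ := 626374289083366595478065559606346133
def b1 : ℕ := 976448692869377735270425038196672544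

theorem chkM1 : chkM m1 a1 b1 = true := by decide +kernel

theorem moved1 : ∃ i < 24, papp (pcomp a1 a1) i ≠ i := by decide +kernel

theorem ok_m1 : ok m1 = true := by decide +kernel

theorem chk_s1 : ∀ i < 24, chkPt (nw s1w false) (lab (pt i)) (lab (pt (papp m1 i))) = true := by decide +kernel

theorem exists_s1 : ∃ s : NN, ((s : Spor.Fi24') : Fi24) = word s1w ∧ ind s = el m1 := word_NN rfl ok_m1 chk_s1

theorem word_s1 : word h1w * word s1w * (word h1w)⁻¹ = H842.ThreeCl.X 1 := by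
  show _ = word [.l, .k, .b, .c]
  unfold s1w
  rw [word_append, word_append, word_reverse]
  group

theorem s1_x2 : (word Cfsg.Agent.H841.Sev.ur * word h1w) * word s1w * (word Cfsg.Agent.H841.Sev.ur * word h1w)⁻¹ =
    Cfsg.Agent.LThreeFi24.SNine.x2 := by
  rw [← Cfsg.Agent.H49.Four.NineSix.X1_conj, ← word_s1]
  group

/-- the fixed points -/
def f1 : Fin 6 → ℕ := ![2, 3, 4, 22, 16, 13]

theorem fix_f1 : ∀ i : Fin 6, papp m1 (f1 i) = f1 i ∧ f1 i < 24 := by decide +kernel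

def pp1 : Fin 9 → Fin 6 := ![0, 0, 0, 0, 0, 0, 1, 1, 1]
def qq1 : Fin 9 → Fin 6 := ![0, 1, 2, 3, 4, 5, 2, 3, 4]

theorem pq1 : ∀ i j : Fin 9, (pp1 i = pp1 j ∧ qq1 i = qq1 j) ∨ (pp1 i = qq1 j ∧ qq1 i = pp1 j) ∨
    (pp1 i = qq1 i ∧ pp1 j = qq1 j) → i = j := by decide

theorem f1_inj : ∀ i j : Fin 6, pt (f1 i) = pt (f1 j) → i = j := by decide +kernel

theorem el_fix {m : ℕ} (hm : ok m = true) {i : ℕ} (h : papp m i = i) (hi : i < 24) :
    ((el m : M24) : Equiv.Perm GolayPt) (pt i) = pt i := by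
  rw [← coe_smul_pt, el_smul_pt hm, idx_pt hi, h]

/-- **for `s` in the class of `X 1` and a 2-element `t` commuting with `s`, `s t` is conjugate into `2^11 : M24`** -/
theorem into_one {s t : Spor.Fi24'} (hs : ∃ g : Fi24, g * (s : Fi24) * g⁻¹ = H842.ThreeCl.X 1 ∨
    g * (s : Fi24) * g⁻¹ = (H842.ThreeCl.X 1)⁻¹) {n : ℕ} (ht : t ^ 2 ^ n = 1) (hst : Commute s t) :
    ∃ g : Spor.Fi24', g * (s * t) * g⁻¹ ∈ normalizer (AA : Set Spor.Fi24') := by
  obtain ⟨s0, h0, hi⟩ := exists_s1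
  have hx := s1_x2
  rw [← h0] at hx
  have hcube : (word s1w) ^ 3 = 1 := by
    have h1 := Cfsg.Agent.H49.Four.NineSix.x2_cube
    rw [← s1_x2, conj_pow] at h1
    exact (conj_eq_one_iff).1 h1
  have hm1 : el m1 ≠ 1 := Cfsg.Agent.H854.Ore.el_ne ok_m1 (by decide +kernel)
  have ho : orderOf s0 = 3 := by
    have h3 : Fact (Nat.Prime 3) := ⟨Nat.prime_three⟩
    refine orderOf_eq_prime ?_ ?_
    · apply Subtype.ext
      apply Subtype.ext
      show ((s0 : Spor.Fi24') : Fi24) ^ 3 = 1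
      rw [h0]
      exact hcube
    · intro h
      apply hm1
      rw [← hi, h, map_one]
  have hfix : 2 ^ (2 * 2 - 1) < Nat.card (ind.ker ⊓ centralizer ({s0} : Set NN) : Subgroup NN) := by
    have hF : ∀ i : Fin 6, ((ind s0 : M24) : Equiv.Perm GolayPt) (pt (f1 i)) = pt (f1 i) := by
      intro i
      rw [hi]
      exact el_fix ok_m1 (fix_f1 i).1 (fix_f1 i).2
    have h1 := le_card_fix (s := s0) (fun i : Fin 9 => pt (f1 (pp1 i))) (fun i => pt (f1 (qq1 i)))
      (fun i => hF _) (fun i => hF _) (fun i j h => pq1 i j (by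
        rcases h with ⟨h1, h2⟩ | ⟨h1, h2⟩ | ⟨h1, h2⟩
        · exact Or.inl ⟨f1_inj _ _ h1, f1_inj _ _ h2⟩
        · exact Or.inr (Or.inl ⟨f1_inj _ _ h1, f1_inj _ _ h2⟩)
        · exact Or.inr (Or.inr ⟨f1_inj _ _ h1, f1_inj _ _ h2⟩)))
    exact lt_of_lt_of_le (by norm_num) h1
  have hd := dvd_cent ho hfix (by rw [hi]; exact eight_M24 chkM1 moved1)
  have hn : ¬ 2 ^ (8 + 1) ∣ Nat.card (centralizer ({(s0 : Spor.Fi24')} : Set Spor.Fi24')) := by
    rw [Cfsg.Agent.H49.Four.NineSix.card_conj (s0 : Spor.Fi24') (word Cfsg.Agent.H841.Sev.ur * word h1w), hx]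
    have h1 := Cfsg.Agent.H49.Four.NineSix.card_K
    unfold Cfsg.Agent.H49.Four.NineSix.K at h1
    rw [h1]
    norm_num
  refine into_gen (k := 8) hd hn ?_ ht hst
  obtain ⟨g, hg⟩ := hs
  refine ⟨(word h1w)⁻¹ * g, ?_⟩
  have e1 : (word h1w)⁻¹ * g * (s : Fi24) * ((word h1w)⁻¹ * g)⁻¹ = (word h1w)⁻¹ * (g * (s : Fi24) * g⁻¹) * word h1w := by
    group
  rw [e1, h0]
  rcases hg with hg | hg
  · left
    rw [hg, ← word_s1]
    group
  · right
    rw [hg, ← word_s1]
    group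

end Cfsg.Agent.H49.TF
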